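import Cfsg.Agent.H851.Dg.Big
import Cfsg.Agent.H278.ElAltNum

/-!
# S5733 (Boston-Shalev): many missing large primes

`BigE g e u` : `u` is a prime such that the order of `q` modulo `u` (of `-q` for the unitary groups) is `e`, and `e` is more
than half of the dimension.  `OutD g R` : for a positive proportion of the exponents `e` some such prime does not divide `|R|`.
-/

set_option autoImplicit false

namespace Cfsg.Agent.H883.BS

open Cfsg.Agent.OrdDiv Cfsg.Agent.H851.Dg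
open Cfsg.Agent.H278.El.AltNum (dimOf)

/-- large primes with the exponent `e` -/
def BigE : Grp → ℕ → ℕ → Prop
  | .psl n q, e, u => u.Prime ∧ orderOf ((q : ℕ) : ZMod u) = e ∧ n < 2 * e ∧ e ≤ n
  | .psu n q, e, u => u.Prime ∧ orderOf (-((q : ℕ) : ZMod u)) = e ∧ Odd e ∧ n < 2 * e ∧ e ≤ n
  | .psp m q, e, u => u.Prime ∧ orderOf ((q : ℕ) : ZMod u) = e ∧ Even e ∧ m < e ∧ e ≤ 2 * m
  | .oodd m q, e, u => u.Prime ∧ orderOf ((q : ℕ) : ZMod u) = e ∧ Even e ∧ m < e ∧ e ≤ 2 * m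
  | .oplus m q, e, u => u.Prime ∧ orderOf ((q : ℕ) : ZMod u) = e ∧ Even e ∧ m < e ∧ e ≤ 2 * (m - 1)
  | .ominus m q, e, u => u.Prime ∧ orderOf ((q : ℕ) : ZMod u) = e ∧ Even e ∧ m < e ∧ e ≤ 2 * m
  | _, _, _ => False

theorem BigE.bigU {g : Grp} {e u : ℕ} (h : BigE g e u) : BigU g u := by
  cases g with
  | psl n q => obtain ⟨h1, rfl, h2, h3⟩ := h; exact ⟨h1, h2, h3⟩
  | psu n q => obtain ⟨h1, rfl, -, h2, h3⟩ := h; exact ⟨h1, h2, h3⟩
  | psp n q => obtain ⟨h1, rfl, h0, h2, h3⟩ := h; exact ⟨h1, Or.inl ⟨h0, h2, h3⟩⟩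
  | oodd n q => obtain ⟨h1, rfl, h0, h2, h3⟩ := h; exact ⟨h1, Or.inl ⟨h0, h2, h3⟩⟩
  | oplus n q => obtain ⟨h1, rfl, h0, h2, h3⟩ := h; exact ⟨h1, Or.inl ⟨h0, h2, h3⟩⟩
  | ominus n q => obtain ⟨h1, rfl, h0, h2, h3⟩ := h; exact ⟨h1, Or.inl ⟨h0, h2, h3⟩⟩
  | _ => exact h.elim

theorem BigE.prime {g : Grp} {e u : ℕ} (h : BigE g e u) : u.Prime := by
  cases g with
  | psl n q => exact h.1
  | psu n q => exact h.1
  | psp n q => exact h.1
  | oodd n q => exact h.1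
  | oplus n q => exact h.1
  | ominus n q => exact h.1
  | _ => exact h.elim

/-- for many exponents a large prime is missing -/
def OutD (g : Grp) {T : Type*} [Group T] (R : Subgroup T) : Prop :=
  ∃ D : Finset ℕ, dimOf g ≤ 200 * D.card ∧ ∀ e ∈ D, ∃ u, BigE g e u ∧ ¬ u ∣ Nat.card R

theorem OutD.mono {g : Grp} {T : Type*} [Group T] [Finite T] {R S : Subgroup T} (h : OutD g S) (hle : R ≤ S) :
    OutD g R := by
  obtain ⟨D, h1, h2⟩ := h
  refine ⟨D, h1, fun e he => ?_⟩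
  obtain ⟨u, h3, h4⟩ := h2 e he
  exact ⟨u, h3, fun h5 => h4 (h5.trans (Subgroup.card_dvd_of_le hle))⟩

end Cfsg.Agent.H883.BS
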