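import Mathlib

/-!
# S5733 (Boston-Shalev): formed spaces, definitions

* `Frm K V` : a pair of functions `B : V → V → K`, `Q : V → K` (no axioms), `Iso f` its isometry group, `f.prod h` the orthogonal
  sum on `V × W`, `FEquiv f h` isometry;
* `Fam` : the four families (`L` linear: `B = 0`, `Q = 0`; `S` symplectic; `U q` unitary over the field with `q ^ 2` elements;
  `O` quadratic forms with non-degenerate polar form), `IsF F f`;
* `Lg k g` : every non-zero `g`-invariant subspace has dimension `> k`;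
* `R k f` : the proportion of `g` in `Iso f` with `Lg k g`;
* `Tor` : data of a torus (a set `S` of semisimple elements of `Iso fE` with irreducible labels of degree `D`).
-/

set_option autoImplicit false

namespace Cfsg.Agent.H883.BS

open Polynomial

/-- form data -/
structure Frm (K V : Type) where
  B : V → V → K
  Q : V → K

section defs

variable {K : Type} [Field K] {V W : Type} [AddCommGroup V] [Module K V] [AddCommGroup W] [Module K W]

/-- the isometry group -/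
def Iso (f : Frm K V) : Subgroup (V ≃ₗ[K] V) where
  carrier := {g | (∀ x y, f.B (g x) (g y) = f.B x y) ∧ ∀ x, f.Q (g x) = f.Q x}
  mul_mem' := by
    rintro a b ⟨ha1, ha2⟩ ⟨hb1, hb2⟩
    refine ⟨fun x y => ?_, fun x => ?_⟩
    · rw [LinearEquiv.mul_apply, LinearEquiv.mul_apply, ha1, hb1]
    · rw [LinearEquiv.mul_apply, ha2, hb2]
  one_mem' := ⟨fun _ _ => rfl, fun _ => rfl⟩
  inv_mem' := by
    rintro a ⟨ha1, ha2⟩
    refine ⟨fun x y => ?_, fun x => ?_⟩
    · rw [← ha1, ← LinearEquiv.mul_apply, ← LinearEquiv.mul_apply, mul_inv_cancel]; rfl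
    · rw [← ha2, ← LinearEquiv.mul_apply, mul_inv_cancel]; rfl

theorem mem_Iso {f : Frm K V} {g : V ≃ₗ[K] V} :
    g ∈ Iso f ↔ (∀ x y, f.B (g x) (g y) = f.B x y) ∧ ∀ x, f.Q (g x) = f.Q x := Iff.rfl

/-- the orthogonal sum -/
def Frm.prod (f : Frm K V) (h : Frm K W) : Frm K (V × W) where
  B x y := f.B x.1 y.1 + h.B x.2 y.2
  Q x := f.Q x.1 + h.Q x.2

/-- isometric -/
def FEquiv (f : Frm K V) (h : Frm K W) : Prop :=
  ∃ φ : V ≃ₗ[K] W, (∀ x y, h.B (φ x) (φ y) = f.B x y) ∧ ∀ x, h.Q (φ x) = f.Q x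

/-- every non-zero invariant subspace has dimension `> k` -/
def Lg (k : ℕ) (g : V ≃ₗ[K] V) : Prop :=
  ∀ U : Submodule K V, U ≠ ⊥ → U.map (g : V →ₗ[K] V) ≤ U → k < Module.finrank K U

/-- the space moved by `g` has even dimension (determinant `1` in odd characteristic, Dickson invariant `0` in characteristic
two, for isometries of quadratic forms) -/
def EvR (g : V ≃ₗ[K] V) : Prop := Even (Module.finrank K (LinearMap.range ((g : V →ₗ[K] V) - 1)))

/-- no invariant subspace of dimension `k` -/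
def NI (k : ℕ) (g : V ≃ₗ[K] V) : Prop :=
  ∀ U : Submodule K V, U.map (g : V →ₗ[K] V) ≤ U → Module.finrank K U ≠ k

/-- the proportion of the elements `g` of the isometry group with `Lg k g` -/
noncomputable def R (k : ℕ) (f : Frm K V) : ℝ :=
  (Nat.card {g : Iso f // Lg k (g : V ≃ₗ[K] V)} : ℝ) / Nat.card (Iso f)

open scoped Classical in
/-- the number of irreducible divisors of the minimal polynomial of degree `D` and type `P` -/
noncomputable def nu (P : K[X] → Prop) (D : ℕ) (g : V ≃ₗ[K] V) : ℕ :=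
  ((UniqueFactorizationMonoid.normalizedFactors (minpoly K (g : V →ₗ[K] V))).toFinset.filter
    fun φ => φ.natDegree = D ∧ P φ).card

/-- the total number of irreducible divisors of degree `D` and type `P` on the set `Lg k` -/
noncomputable def nuSum (k : ℕ) (f : Frm K V) (P : K[X] → Prop) (D : ℕ) : ℕ :=
  ∑ᶠ g : {g : Iso f // Lg k (g : V ≃ₗ[K] V)}, nu P D ((g : Iso f) : V ≃ₗ[K] V)

end defs

/-- the families -/
inductive Fam
  | L
  | S
  | U (q : ℕ)
  | O

section fam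

variable {K : Type} [Field K] {V : Type} [AddCommGroup V] [Module K V]

/-- `f` is a non-degenerate form of the family -/
def IsF : Fam → Frm K V → Prop
  | .L, f => f = ⟨fun _ _ => 0, fun _ => 0⟩
  | .S, f => ∃ b : LinearMap.BilinForm K V, b.IsAlt ∧ b.Nondegenerate ∧ f = ⟨fun x y => b x y, fun _ => 0⟩
  | .U q, f => Nat.card K = q ^ 2 ∧ ∃ (σ : K →+* K) (b : V →ₛₗ[σ] V →ₗ[K] K), (∀ a, σ a = a ^ q) ∧
      (∀ x y, b y x = σ (b x y)) ∧ b.Nondegenerate ∧ f = ⟨fun x y => b x y, fun _ => 0⟩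
  | .O, f => ∃ Q : QuadraticForm K V, (QuadraticMap.polarBilin Q).Nondegenerate ∧
      f = ⟨fun x y => QuadraticMap.polar Q x y, fun x => Q x⟩

/-- the exponent of the duality `x ↦ (x ^ e)⁻¹` on eigenvalues -/
def Fam.ex : Fam → ℕ
  | .U q => q
  | _ => 1

/-- self-dual polynomials (for the duality `x ↦ (x ^ e)⁻¹` of the roots) -/
def Sd (e : ℕ) (φ : K[X]) : Prop :=
  ∀ (L : Type) [Field L] [Algebra K L] (x : L), aeval x φ = 0 → aeval (x ^ e)⁻¹ φ = 0

end fam

/-- the error term -/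
noncomputable def tl (D : ℕ) : ℝ := 1024 / 2 ^ (D / 8)

/-- few isometries have an eigenvector for an irreducible polynomial of degree `D` -/
def WB {K : Type} [Field K] {V : Type} [AddCommGroup V] [Module K V] (f : Frm K V) (D : ℕ) : Prop :=
  ∀ ψ : K[X], Irreducible ψ → ψ.Monic → ψ.natDegree = D → ψ.coeff 0 ≠ 0 →
    (Nat.card {g : Iso f // ∃ v : V, v ≠ 0 ∧ aeval ((g : V ≃ₗ[K] V) : V →ₗ[K] V) ψ v = 0} : ℝ) ≤ tl D * Nat.card (Iso f)

/-- torus data: `S` is a set of semisimple elements of `Iso fE`, with irreducible labels of degree `D`; `N` is (a bound for) the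
order of the torus -/
structure Tor {K : Type} [Field K] {E : Type} [AddCommGroup E] [Module K E] (fE : Frm K E) (D N : ℕ)
    (P : K[X] → Prop) (S : Finset (E ≃ₗ[K] E)) (lab : (E ≃ₗ[K] E) → K[X]) (pol : K[X] → K[X]) : Prop where
  mem : ∀ a ∈ S, a ∈ Iso fE
  monic : ∀ a ∈ S, (lab a).Monic
  irr : ∀ a ∈ S, Irreducible (lab a)
  deg : ∀ a ∈ S, (lab a).natDegree = D
  typ : ∀ a ∈ S, P (lab a)
  dvd : ∀ a ∈ S, lab a ∣ minpoly K (a : E →ₗ[K] E)
  kill : ∀ a ∈ S, aeval (a : E →ₗ[K] E) (pol (lab a)) = 0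
  pol_fac : ∀ a ∈ S, ∃ ψ₁ ψ₂ : K[X], Irreducible ψ₁ ∧ ψ₁.Monic ∧ ψ₁.natDegree = D ∧ ψ₁.coeff 0 ≠ 0 ∧
    Irreducible ψ₂ ∧ ψ₂.Monic ∧ ψ₂.natDegree = D ∧ ψ₂.coeff 0 ≠ 0 ∧ pol (lab a) ∣ ψ₁ * ψ₂
  fib : ∀ a ∈ S, Nat.card {k : E ≃ₗ[K] E // k ∈ Iso fE ∧ ∃ a' ∈ S, lab a' = lab a ∧ k * a * k⁻¹ = a'} ≤ D * N
  irred : ∀ a ∈ S, Lg (D - 1) a
  N_pos : 0 < N
  card_le : S.card ≤ N
  card_ge : (N : ℝ) * (1 - tl D) ≤ S.card

/-- the family `F` over `K` has a torus of degree `D` and type `P` on a space of dimension `dim` -/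
def HasTor (F : Fam) (K : Type) [Field K] (dim D : ℕ) (P : K[X] → Prop) : Prop :=
  ∃ (E : Type) (_ : AddCommGroup E) (_ : Module K E) (_ : FiniteDimensional K E) (fE : Frm K E),
    Module.finrank K E = dim ∧ IsF F fE ∧ ∃ (N : ℕ) (S : Finset (E ≃ₗ[K] E)) (lab : (E ≃ₗ[K] E) → K[X])
      (pol : K[X] → K[X]), Tor fE D N P S lab pol

/-- the number of zeros of the quadratic form -/
noncomputable def zc {K V : Type} [Zero K] (f : Frm K V) : ℕ := Nat.card {x : V // f.Q x = 0}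

/-- as `HasTor .O`, with the number of zeros of the form (which determines the type) -/
def HasTorO (K : Type) [Field K] (dim D z : ℕ) (P : K[X] → Prop) : Prop :=
  ∃ (E : Type) (_ : AddCommGroup E) (_ : Module K E) (_ : FiniteDimensional K E) (fE : Frm K E),
    Module.finrank K E = dim ∧ IsF .O fE ∧ zc fE = z ∧ ∃ (N : ℕ) (S : Finset (E ≃ₗ[K] E))
      (lab : (E ≃ₗ[K] E) → K[X]) (pol : K[X] → K[X]), Tor fE D N P S lab pol

end Cfsg.Agent.H883.BS
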